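import Cfsg.Agent.SporB.Fi23.Rep.Data

set_option autoImplicit false
set_option maxRecDepth 100000

namespace Cfsg.Agent.CosetEnum.Fi23.Rep

theorem conj_14 : allRange (fun i => Nat.beq (tbl.run zWord i) (tbl.run (conjU ++ conjL :: conjU.reverse) i)) 3584 256 = true := by decide +kernel

theorem conj_15 : allRange (fun i => Nat.beq (tbl.run zWord i) (tbl.run (conjU ++ conjL :: conjU.reverse) i)) 3840 256 = true := by decide +kernel

theorem conj_16 : allRange (fun i => Nat.beq (tbl.run zWord i) (tbl.run (conjU ++ conjL :: conjU.reverse) i)) 4096 256 = true := by decide +kernel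

theorem conj_17 : allRange (fun i => Nat.beq (tbl.run zWord i) (tbl.run (conjU ++ conjL :: conjU.reverse) i)) 4352 256 = true := by decide +kernel

theorem conj_18 : allRange (fun i => Nat.beq (tbl.run zWord i) (tbl.run (conjU ++ conjL :: conjU.reverse) i)) 4608 256 = true := by decide +kernel

theorem conj_19 : allRange (fun i => Nat.beq (tbl.run zWord i) (tbl.run (conjU ++ conjL :: conjU.reverse) i)) 4864 256 = true := by decide +kernel

theorem conj_20 : allRange (fun i => Nat.beq (tbl.run zWord i) (tbl.run (conjU ++ conjL :: conjU.reverse) i)) 5120 256 = true := by decide +kernel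

theorem conj_21 : allRange (fun i => Nat.beq (tbl.run zWord i) (tbl.run (conjU ++ conjL :: conjU.reverse) i)) 5376 256 = true := by decide +kernel

theorem conj_22 : allRange (fun i => Nat.beq (tbl.run zWord i) (tbl.run (conjU ++ conjL :: conjU.reverse) i)) 5632 256 = true := by decide +kernel

theorem conj_23 : allRange (fun i => Nat.beq (tbl.run zWord i) (tbl.run (conjU ++ conjL :: conjU.reverse) i)) 5888 256 = true := by decide +kernel

theorem conj_24 : allRange (fun i => Nat.beq (tbl.run zWord i) (tbl.run (conjU ++ conjL :: conjU.reverse) i)) 6144 256 = true := by decide +kernel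

theorem conj_25 : allRange (fun i => Nat.beq (tbl.run zWord i) (tbl.run (conjU ++ conjL :: conjU.reverse) i)) 6400 256 = true := by decide +kernel

theorem conj_26 : allRange (fun i => Nat.beq (tbl.run zWord i) (tbl.run (conjU ++ conjL :: conjU.reverse) i)) 6656 256 = true := by decide +kernel

theorem conj_27 : allRange (fun i => Nat.beq (tbl.run zWord i) (tbl.run (conjU ++ conjL :: conjU.reverse) i)) 6912 256 = true := by decide +kernel

end Cfsg.Agent.CosetEnum.Fi23.Rep
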