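import Cfsg.Agent.SporB.Fi23.Rep.Data

set_option autoImplicit false
set_option maxRecDepth 100000

namespace Cfsg.Agent.CosetEnum.Fi23.Rep

theorem conj_28 : allRange (fun i => Nat.beq (tbl.run zWord i) (tbl.run (conjU ++ conjL :: conjU.reverse) i)) 7168 256 = true := by decide +kernel

theorem conj_29 : allRange (fun i => Nat.beq (tbl.run zWord i) (tbl.run (conjU ++ conjL :: conjU.reverse) i)) 7424 256 = true := by decide +kernel

theorem conj_30 : allRange (fun i => Nat.beq (tbl.run zWord i) (tbl.run (conjU ++ conjL :: conjU.reverse) i)) 7680 256 = true := by decide +kernel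

theorem conj_31 : allRange (fun i => Nat.beq (tbl.run zWord i) (tbl.run (conjU ++ conjL :: conjU.reverse) i)) 7936 256 = true := by decide +kernel

theorem conj_32 : allRange (fun i => Nat.beq (tbl.run zWord i) (tbl.run (conjU ++ conjL :: conjU.reverse) i)) 8192 256 = true := by decide +kernel

theorem conj_33 : allRange (fun i => Nat.beq (tbl.run zWord i) (tbl.run (conjU ++ conjL :: conjU.reverse) i)) 8448 256 = true := by decide +kernel

theorem conj_34 : allRange (fun i => Nat.beq (tbl.run zWord i) (tbl.run (conjU ++ conjL :: conjU.reverse) i)) 8704 256 = true := by decide +kernel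

theorem conj_35 : allRange (fun i => Nat.beq (tbl.run zWord i) (tbl.run (conjU ++ conjL :: conjU.reverse) i)) 8960 256 = true := by decide +kernel

theorem conj_36 : allRange (fun i => Nat.beq (tbl.run zWord i) (tbl.run (conjU ++ conjL :: conjU.reverse) i)) 9216 256 = true := by decide +kernel

theorem conj_37 : allRange (fun i => Nat.beq (tbl.run zWord i) (tbl.run (conjU ++ conjL :: conjU.reverse) i)) 9472 256 = true := by decide +kernel

theorem conj_38 : allRange (fun i => Nat.beq (tbl.run zWord i) (tbl.run (conjU ++ conjL :: conjU.reverse) i)) 9728 256 = true := by decide +kernel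

theorem conj_39 : allRange (fun i => Nat.beq (tbl.run zWord i) (tbl.run (conjU ++ conjL :: conjU.reverse) i)) 9984 256 = true := by decide +kernel

theorem conj_40 : allRange (fun i => Nat.beq (tbl.run zWord i) (tbl.run (conjU ++ conjL :: conjU.reverse) i)) 10240 256 = true := by decide +kernel

theorem conj_41 : allRange (fun i => Nat.beq (tbl.run zWord i) (tbl.run (conjU ++ conjL :: conjU.reverse) i)) 10496 256 = true := by decide +kernel

end Cfsg.Agent.CosetEnum.Fi23.Rep
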