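import Cfsg.Agent.SporB.Fi23.Rep.Data

set_option autoImplicit false
set_option maxRecDepth 100000

namespace Cfsg.Agent.CosetEnum.Fi23.Rep

theorem conj_42 : allRange (fun i => Nat.beq (tbl.run zWord i) (tbl.run (conjU ++ conjL :: conjU.reverse) i)) 10752 256 = true := by decide +kernel

theorem conj_43 : allRange (fun i => Nat.beq (tbl.run zWord i) (tbl.run (conjU ++ conjL :: conjU.reverse) i)) 11008 256 = true := by decide +kernel

theorem conj_44 : allRange (fun i => Nat.beq (tbl.run zWord i) (tbl.run (conjU ++ conjL :: conjU.reverse) i)) 11264 256 = true := by decide +kernel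

theorem conj_45 : allRange (fun i => Nat.beq (tbl.run zWord i) (tbl.run (conjU ++ conjL :: conjU.reverse) i)) 11520 256 = true := by decide +kernel

theorem conj_46 : allRange (fun i => Nat.beq (tbl.run zWord i) (tbl.run (conjU ++ conjL :: conjU.reverse) i)) 11776 256 = true := by decide +kernel

theorem conj_47 : allRange (fun i => Nat.beq (tbl.run zWord i) (tbl.run (conjU ++ conjL :: conjU.reverse) i)) 12032 256 = true := by decide +kernel

theorem conj_48 : allRange (fun i => Nat.beq (tbl.run zWord i) (tbl.run (conjU ++ conjL :: conjU.reverse) i)) 12288 256 = true := by decide +kernel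

theorem conj_49 : allRange (fun i => Nat.beq (tbl.run zWord i) (tbl.run (conjU ++ conjL :: conjU.reverse) i)) 12544 256 = true := by decide +kernel

theorem conj_50 : allRange (fun i => Nat.beq (tbl.run zWord i) (tbl.run (conjU ++ conjL :: conjU.reverse) i)) 12800 256 = true := by decide +kernel

theorem conj_51 : allRange (fun i => Nat.beq (tbl.run zWord i) (tbl.run (conjU ++ conjL :: conjU.reverse) i)) 13056 256 = true := by decide +kernel

theorem conj_52 : allRange (fun i => Nat.beq (tbl.run zWord i) (tbl.run (conjU ++ conjL :: conjU.reverse) i)) 13312 256 = true := by decide +kernel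

theorem conj_53 : allRange (fun i => Nat.beq (tbl.run zWord i) (tbl.run (conjU ++ conjL :: conjU.reverse) i)) 13568 256 = true := by decide +kernel

theorem conj_54 : allRange (fun i => Nat.beq (tbl.run zWord i) (tbl.run (conjU ++ conjL :: conjU.reverse) i)) 13824 256 = true := by decide +kernel

theorem conj_55 : allRange (fun i => Nat.beq (tbl.run zWord i) (tbl.run (conjU ++ conjL :: conjU.reverse) i)) 14080 256 = true := by decide +kernel

end Cfsg.Agent.CosetEnum.Fi23.Rep
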