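import Cfsg.Agent.SporB.Fi23.Rep.Data

set_option autoImplicit false
set_option maxRecDepth 100000

namespace Cfsg.Agent.CosetEnum.Fi23.Rep

theorem conj_56 : allRange (fun i => Nat.beq (tbl.run zWord i) (tbl.run (conjU ++ conjL :: conjU.reverse) i)) 14336 256 = true := by decide +kernel

theorem conj_57 : allRange (fun i => Nat.beq (tbl.run zWord i) (tbl.run (conjU ++ conjL :: conjU.reverse) i)) 14592 256 = true := by decide +kernel

theorem conj_58 : allRange (fun i => Nat.beq (tbl.run zWord i) (tbl.run (conjU ++ conjL :: conjU.reverse) i)) 14848 256 = true := by decide +kernel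

theorem conj_59 : allRange (fun i => Nat.beq (tbl.run zWord i) (tbl.run (conjU ++ conjL :: conjU.reverse) i)) 15104 256 = true := by decide +kernel

theorem conj_60 : allRange (fun i => Nat.beq (tbl.run zWord i) (tbl.run (conjU ++ conjL :: conjU.reverse) i)) 15360 256 = true := by decide +kernel

theorem conj_61 : allRange (fun i => Nat.beq (tbl.run zWord i) (tbl.run (conjU ++ conjL :: conjU.reverse) i)) 15616 256 = true := by decide +kernel

theorem conj_62 : allRange (fun i => Nat.beq (tbl.run zWord i) (tbl.run (conjU ++ conjL :: conjU.reverse) i)) 15872 256 = true := by decide +kernel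

theorem conj_63 : allRange (fun i => Nat.beq (tbl.run zWord i) (tbl.run (conjU ++ conjL :: conjU.reverse) i)) 16128 256 = true := by decide +kernel

theorem conj_64 : allRange (fun i => Nat.beq (tbl.run zWord i) (tbl.run (conjU ++ conjL :: conjU.reverse) i)) 16384 256 = true := by decide +kernel

theorem conj_65 : allRange (fun i => Nat.beq (tbl.run zWord i) (tbl.run (conjU ++ conjL :: conjU.reverse) i)) 16640 256 = true := by decide +kernel

theorem conj_66 : allRange (fun i => Nat.beq (tbl.run zWord i) (tbl.run (conjU ++ conjL :: conjU.reverse) i)) 16896 256 = true := by decide +kernel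

theorem conj_67 : allRange (fun i => Nat.beq (tbl.run zWord i) (tbl.run (conjU ++ conjL :: conjU.reverse) i)) 17152 256 = true := by decide +kernel

theorem conj_68 : allRange (fun i => Nat.beq (tbl.run zWord i) (tbl.run (conjU ++ conjL :: conjU.reverse) i)) 17408 256 = true := by decide +kernel

theorem conj_69 : allRange (fun i => Nat.beq (tbl.run zWord i) (tbl.run (conjU ++ conjL :: conjU.reverse) i)) 17664 256 = true := by decide +kernel

end Cfsg.Agent.CosetEnum.Fi23.Rep
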