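import Cfsg.Agent.SporB.Fi23.Rep.Data

set_option autoImplicit false
set_option maxRecDepth 100000

namespace Cfsg.Agent.CosetEnum.Fi23.Rep

theorem orbit_42 : allRange (fun i => allRange (fun c => orb.checkPoint tbl ws c (roots.getD c 0) i) 0 3) 10752 256 = true := by decide +kernel

theorem orbit_43 : allRange (fun i => allRange (fun c => orb.checkPoint tbl ws c (roots.getD c 0) i) 0 3) 11008 256 = true := by decide +kernel

theorem orbit_44 : allRange (fun i => allRange (fun c => orb.checkPoint tbl ws c (roots.getD c 0) i) 0 3) 11264 256 = true := by decide +kernel

theorem orbit_45 : allRange (fun i => allRange (fun c => orb.checkPoint tbl ws c (roots.getD c 0) i) 0 3) 11520 256 = true := by decide +kernel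

theorem orbit_46 : allRange (fun i => allRange (fun c => orb.checkPoint tbl ws c (roots.getD c 0) i) 0 3) 11776 256 = true := by decide +kernel

theorem orbit_47 : allRange (fun i => allRange (fun c => orb.checkPoint tbl ws c (roots.getD c 0) i) 0 3) 12032 256 = true := by decide +kernel

theorem orbit_48 : allRange (fun i => allRange (fun c => orb.checkPoint tbl ws c (roots.getD c 0) i) 0 3) 12288 256 = true := by decide +kernel

theorem orbit_49 : allRange (fun i => allRange (fun c => orb.checkPoint tbl ws c (roots.getD c 0) i) 0 3) 12544 256 = true := by decide +kernel

theorem orbit_50 : allRange (fun i => allRange (fun c => orb.checkPoint tbl ws c (roots.getD c 0) i) 0 3) 12800 256 = true := by decide +kernel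

theorem orbit_51 : allRange (fun i => allRange (fun c => orb.checkPoint tbl ws c (roots.getD c 0) i) 0 3) 13056 256 = true := by decide +kernel

theorem orbit_52 : allRange (fun i => allRange (fun c => orb.checkPoint tbl ws c (roots.getD c 0) i) 0 3) 13312 256 = true := by decide +kernel

theorem orbit_53 : allRange (fun i => allRange (fun c => orb.checkPoint tbl ws c (roots.getD c 0) i) 0 3) 13568 256 = true := by decide +kernel

theorem orbit_54 : allRange (fun i => allRange (fun c => orb.checkPoint tbl ws c (roots.getD c 0) i) 0 3) 13824 256 = true := by decide +kernel

theorem orbit_55 : allRange (fun i => allRange (fun c => orb.checkPoint tbl ws c (roots.getD c 0) i) 0 3) 14080 256 = true := by decide +kernel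

theorem orbit_56 : allRange (fun i => allRange (fun c => orb.checkPoint tbl ws c (roots.getD c 0) i) 0 3) 14336 256 = true := by decide +kernel

theorem orbit_57 : allRange (fun i => allRange (fun c => orb.checkPoint tbl ws c (roots.getD c 0) i) 0 3) 14592 256 = true := by decide +kernel

theorem orbit_58 : allRange (fun i => allRange (fun c => orb.checkPoint tbl ws c (roots.getD c 0) i) 0 3) 14848 256 = true := by decide +kernel

theorem orbit_59 : allRange (fun i => allRange (fun c => orb.checkPoint tbl ws c (roots.getD c 0) i) 0 3) 15104 256 = true := by decide +kernel

theorem orbit_60 : allRange (fun i => allRange (fun c => orb.checkPoint tbl ws c (roots.getD c 0) i) 0 3) 15360 256 = true := by decide +kernel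

theorem orbit_61 : allRange (fun i => allRange (fun c => orb.checkPoint tbl ws c (roots.getD c 0) i) 0 3) 15616 256 = true := by decide +kernel

theorem orbit_62 : allRange (fun i => allRange (fun c => orb.checkPoint tbl ws c (roots.getD c 0) i) 0 3) 15872 256 = true := by decide +kernel

theorem orbit_63 : allRange (fun i => allRange (fun c => orb.checkPoint tbl ws c (roots.getD c 0) i) 0 3) 16128 256 = true := by decide +kernel

theorem orbit_64 : allRange (fun i => allRange (fun c => orb.checkPoint tbl ws c (roots.getD c 0) i) 0 3) 16384 256 = true := by decide +kernel

theorem orbit_65 : allRange (fun i => allRange (fun c => orb.checkPoint tbl ws c (roots.getD c 0) i) 0 3) 16640 256 = true := by decide +kernel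

theorem orbit_66 : allRange (fun i => allRange (fun c => orb.checkPoint tbl ws c (roots.getD c 0) i) 0 3) 16896 256 = true := by decide +kernel

theorem orbit_67 : allRange (fun i => allRange (fun c => orb.checkPoint tbl ws c (roots.getD c 0) i) 0 3) 17152 256 = true := by decide +kernel

theorem orbit_68 : allRange (fun i => allRange (fun c => orb.checkPoint tbl ws c (roots.getD c 0) i) 0 3) 17408 256 = true := by decide +kernel

theorem orbit_69 : allRange (fun i => allRange (fun c => orb.checkPoint tbl ws c (roots.getD c 0) i) 0 3) 17664 256 = true := by decide +kernel

theorem orbit_70 : allRange (fun i => allRange (fun c => orb.checkPoint tbl ws c (roots.getD c 0) i) 0 3) 17920 256 = true := by decide +kernel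

theorem orbit_71 : allRange (fun i => allRange (fun c => orb.checkPoint tbl ws c (roots.getD c 0) i) 0 3) 18176 256 = true := by decide +kernel

theorem orbit_72 : allRange (fun i => allRange (fun c => orb.checkPoint tbl ws c (roots.getD c 0) i) 0 3) 18432 256 = true := by decide +kernel

theorem orbit_73 : allRange (fun i => allRange (fun c => orb.checkPoint tbl ws c (roots.getD c 0) i) 0 3) 18688 256 = true := by decide +kernel

theorem orbit_74 : allRange (fun i => allRange (fun c => orb.checkPoint tbl ws c (roots.getD c 0) i) 0 3) 18944 256 = true := by decide +kernel

theorem orbit_75 : allRange (fun i => allRange (fun c => orb.checkPoint tbl ws c (roots.getD c 0) i) 0 3) 19200 256 = true := by decide +kernel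

theorem orbit_76 : allRange (fun i => allRange (fun c => orb.checkPoint tbl ws c (roots.getD c 0) i) 0 3) 19456 256 = true := by decide +kernel

theorem orbit_77 : allRange (fun i => allRange (fun c => orb.checkPoint tbl ws c (roots.getD c 0) i) 0 3) 19712 256 = true := by decide +kernel

theorem orbit_78 : allRange (fun i => allRange (fun c => orb.checkPoint tbl ws c (roots.getD c 0) i) 0 3) 19968 256 = true := by decide +kernel

theorem orbit_79 : allRange (fun i => allRange (fun c => orb.checkPoint tbl ws c (roots.getD c 0) i) 0 3) 20224 256 = true := by decide +kernel

theorem orbit_80 : allRange (fun i => allRange (fun c => orb.checkPoint tbl ws c (roots.getD c 0) i) 0 3) 20480 256 = true := by decide +kernel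

theorem orbit_81 : allRange (fun i => allRange (fun c => orb.checkPoint tbl ws c (roots.getD c 0) i) 0 3) 20736 256 = true := by decide +kernel

theorem orbit_82 : allRange (fun i => allRange (fun c => orb.checkPoint tbl ws c (roots.getD c 0) i) 0 3) 20992 256 = true := by decide +kernel

theorem orbit_83 : allRange (fun i => allRange (fun c => orb.checkPoint tbl ws c (roots.getD c 0) i) 0 3) 21248 256 = true := by decide +kernel

end Cfsg.Agent.CosetEnum.Fi23.Rep
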