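import Cfsg.Agent.SporB.Fi23.Rep.Data

set_option autoImplicit false
set_option maxRecDepth 100000

namespace Cfsg.Agent.CosetEnum.Fi23.Rep

theorem orbit_84 : allRange (fun i => allRange (fun c => orb.checkPoint tbl ws c (roots.getD c 0) i) 0 3) 21504 256 = true := by decide +kernel

theorem orbit_85 : allRange (fun i => allRange (fun c => orb.checkPoint tbl ws c (roots.getD c 0) i) 0 3) 21760 256 = true := by decide +kernel

theorem orbit_86 : allRange (fun i => allRange (fun c => orb.checkPoint tbl ws c (roots.getD c 0) i) 0 3) 22016 256 = true := by decide +kernel

theorem orbit_87 : allRange (fun i => allRange (fun c => orb.checkPoint tbl ws c (roots.getD c 0) i) 0 3) 22272 256 = true := by decide +kernel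

theorem orbit_88 : allRange (fun i => allRange (fun c => orb.checkPoint tbl ws c (roots.getD c 0) i) 0 3) 22528 256 = true := by decide +kernel

theorem orbit_89 : allRange (fun i => allRange (fun c => orb.checkPoint tbl ws c (roots.getD c 0) i) 0 3) 22784 256 = true := by decide +kernel

theorem orbit_90 : allRange (fun i => allRange (fun c => orb.checkPoint tbl ws c (roots.getD c 0) i) 0 3) 23040 256 = true := by decide +kernel

theorem orbit_91 : allRange (fun i => allRange (fun c => orb.checkPoint tbl ws c (roots.getD c 0) i) 0 3) 23296 256 = true := by decide +kernel

theorem orbit_92 : allRange (fun i => allRange (fun c => orb.checkPoint tbl ws c (roots.getD c 0) i) 0 3) 23552 256 = true := by decide +kernel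

theorem orbit_93 : allRange (fun i => allRange (fun c => orb.checkPoint tbl ws c (roots.getD c 0) i) 0 3) 23808 256 = true := by decide +kernel

theorem orbit_94 : allRange (fun i => allRange (fun c => orb.checkPoint tbl ws c (roots.getD c 0) i) 0 3) 24064 256 = true := by decide +kernel

theorem orbit_95 : allRange (fun i => allRange (fun c => orb.checkPoint tbl ws c (roots.getD c 0) i) 0 3) 24320 256 = true := by decide +kernel

theorem orbit_96 : allRange (fun i => allRange (fun c => orb.checkPoint tbl ws c (roots.getD c 0) i) 0 3) 24576 256 = true := by decide +kernel

theorem orbit_97 : allRange (fun i => allRange (fun c => orb.checkPoint tbl ws c (roots.getD c 0) i) 0 3) 24832 256 = true := by decide +kernel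

theorem orbit_98 : allRange (fun i => allRange (fun c => orb.checkPoint tbl ws c (roots.getD c 0) i) 0 3) 25088 256 = true := by decide +kernel

theorem orbit_99 : allRange (fun i => allRange (fun c => orb.checkPoint tbl ws c (roots.getD c 0) i) 0 3) 25344 256 = true := by decide +kernel

theorem orbit_100 : allRange (fun i => allRange (fun c => orb.checkPoint tbl ws c (roots.getD c 0) i) 0 3) 25600 256 = true := by decide +kernel

theorem orbit_101 : allRange (fun i => allRange (fun c => orb.checkPoint tbl ws c (roots.getD c 0) i) 0 3) 25856 256 = true := by decide +kernel

theorem orbit_102 : allRange (fun i => allRange (fun c => orb.checkPoint tbl ws c (roots.getD c 0) i) 0 3) 26112 256 = true := by decide +kernel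

theorem orbit_103 : allRange (fun i => allRange (fun c => orb.checkPoint tbl ws c (roots.getD c 0) i) 0 3) 26368 256 = true := by decide +kernel

theorem orbit_104 : allRange (fun i => allRange (fun c => orb.checkPoint tbl ws c (roots.getD c 0) i) 0 3) 26624 256 = true := by decide +kernel

theorem orbit_105 : allRange (fun i => allRange (fun c => orb.checkPoint tbl ws c (roots.getD c 0) i) 0 3) 26880 256 = true := by decide +kernel

theorem orbit_106 : allRange (fun i => allRange (fun c => orb.checkPoint tbl ws c (roots.getD c 0) i) 0 3) 27136 256 = true := by decide +kernel

theorem orbit_107 : allRange (fun i => allRange (fun c => orb.checkPoint tbl ws c (roots.getD c 0) i) 0 3) 27392 256 = true := by decide +kernel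

theorem orbit_108 : allRange (fun i => allRange (fun c => orb.checkPoint tbl ws c (roots.getD c 0) i) 0 3) 27648 256 = true := by decide +kernel

theorem orbit_109 : allRange (fun i => allRange (fun c => orb.checkPoint tbl ws c (roots.getD c 0) i) 0 3) 27904 256 = true := by decide +kernel

theorem orbit_110 : allRange (fun i => allRange (fun c => orb.checkPoint tbl ws c (roots.getD c 0) i) 0 3) 28160 256 = true := by decide +kernel

theorem orbit_111 : allRange (fun i => allRange (fun c => orb.checkPoint tbl ws c (roots.getD c 0) i) 0 3) 28416 256 = true := by decide +kernel

theorem orbit_112 : allRange (fun i => allRange (fun c => orb.checkPoint tbl ws c (roots.getD c 0) i) 0 3) 28672 256 = true := by decide +kernel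

theorem orbit_113 : allRange (fun i => allRange (fun c => orb.checkPoint tbl ws c (roots.getD c 0) i) 0 3) 28928 256 = true := by decide +kernel

theorem orbit_114 : allRange (fun i => allRange (fun c => orb.checkPoint tbl ws c (roots.getD c 0) i) 0 3) 29184 256 = true := by decide +kernel

theorem orbit_115 : allRange (fun i => allRange (fun c => orb.checkPoint tbl ws c (roots.getD c 0) i) 0 3) 29440 256 = true := by decide +kernel

theorem orbit_116 : allRange (fun i => allRange (fun c => orb.checkPoint tbl ws c (roots.getD c 0) i) 0 3) 29696 256 = true := by decide +kernel

theorem orbit_117 : allRange (fun i => allRange (fun c => orb.checkPoint tbl ws c (roots.getD c 0) i) 0 3) 29952 256 = true := by decide +kernel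

theorem orbit_118 : allRange (fun i => allRange (fun c => orb.checkPoint tbl ws c (roots.getD c 0) i) 0 3) 30208 256 = true := by decide +kernel

theorem orbit_119 : allRange (fun i => allRange (fun c => orb.checkPoint tbl ws c (roots.getD c 0) i) 0 3) 30464 256 = true := by decide +kernel

theorem orbit_120 : allRange (fun i => allRange (fun c => orb.checkPoint tbl ws c (roots.getD c 0) i) 0 3) 30720 256 = true := by decide +kernel

theorem orbit_121 : allRange (fun i => allRange (fun c => orb.checkPoint tbl ws c (roots.getD c 0) i) 0 3) 30976 256 = true := by decide +kernel

theorem orbit_122 : allRange (fun i => allRange (fun c => orb.checkPoint tbl ws c (roots.getD c 0) i) 0 3) 31232 256 = true := by decide +kernel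

theorem orbit_123 : allRange (fun i => allRange (fun c => orb.checkPoint tbl ws c (roots.getD c 0) i) 0 3) 31488 183 = true := by decide +kernel

end Cfsg.Agent.CosetEnum.Fi23.Rep
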