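import Cfsg.Agent.SporB.Fi23.Rep.Orbit0
import Cfsg.Agent.SporB.Fi23.Rep.Orbit1
import Cfsg.Agent.SporB.Fi23.Rep.Orbit2

set_option autoImplicit false
set_option maxRecDepth 100000

namespace Cfsg.Agent.CosetEnum.Fi23.Rep

theorem orbit : ∀ i < 31671, allRange (fun c => orb.checkPoint tbl ws c (roots.getD c 0) i) 0 3 = true := by
  intro i hi
  rcases Nat.lt_or_ge i 15872 with h | h
  ·
    rcases Nat.lt_or_ge i 7936 with h | h
    ·
      rcases Nat.lt_or_ge i 3840 with h | h
      ·
        rcases Nat.lt_or_ge i 1792 with h | h
        ·
          rcases Nat.lt_or_ge i 768 with h | h
          ·
            rcases Nat.lt_or_ge i 256 with h | h
            ·
              exact allRange_spec orbit_0 i (by omega) (by omega)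
            ·
              rcases Nat.lt_or_ge i 512 with h | h
              ·
                exact allRange_spec orbit_1 i (by omega) (by omega)
              ·
                exact allRange_spec orbit_2 i (by omega) (by omega)
          ·
            rcases Nat.lt_or_ge i 1280 with h | h
            ·
              rcases Nat.lt_or_ge i 1024 with h | h
              ·
                exact allRange_spec orbit_3 i (by omega) (by omega)
              ·
                exact allRange_spec orbit_4 i (by omega) (by omega)
            ·
              rcases Nat.lt_or_ge i 1536 with h | h
              ·
                exact allRange_spec orbit_5 i (by omega) (by omega)
              ·
                exact allRange_spec orbit_6 i (by omega) (by omega)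
        ·
          rcases Nat.lt_or_ge i 2816 with h | h
          ·
            rcases Nat.lt_or_ge i 2304 with h | h
            ·
              rcases Nat.lt_or_ge i 2048 with h | h
              ·
                exact allRange_spec orbit_7 i (by omega) (by omega)
              ·
                exact allRange_spec orbit_8 i (by omega) (by omega)
            ·
              rcases Nat.lt_or_ge i 2560 with h | h
              ·
                exact allRange_spec orbit_9 i (by omega) (by omega)
              ·
                exact allRange_spec orbit_10 i (by omega) (by omega)
          ·
            rcases Nat.lt_or_ge i 3328 with h | h
            ·
              rcases Nat.lt_or_ge i 3072 with h | h
              ·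
                exact allRange_spec orbit_11 i (by omega) (by omega)
              ·
                exact allRange_spec orbit_12 i (by omega) (by omega)
            ·
              rcases Nat.lt_or_ge i 3584 with h | h
              ·
                exact allRange_spec orbit_13 i (by omega) (by omega)
              ·
                exact allRange_spec orbit_14 i (by omega) (by omega)
      ·
        rcases Nat.lt_or_ge i 5888 with h | h
        ·
          rcases Nat.lt_or_ge i 4864 with h | h
          ·
            rcases Nat.lt_or_ge i 4352 with h | h
            ·
              rcases Nat.lt_or_ge i 4096 with h | h
              ·
                exact allRange_spec orbit_15 i (by omega) (by omega)
              ·
                exact allRange_spec orbit_16 i (by omega) (by omega)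
            ·
              rcases Nat.lt_or_ge i 4608 with h | h
              ·
                exact allRange_spec orbit_17 i (by omega) (by omega)
              ·
                exact allRange_spec orbit_18 i (by omega) (by omega)
          ·
            rcases Nat.lt_or_ge i 5376 with h | h
            ·
              rcases Nat.lt_or_ge i 5120 with h | h
              ·
                exact allRange_spec orbit_19 i (by omega) (by omega)
              ·
                exact allRange_spec orbit_20 i (by omega) (by omega)
            ·
              rcases Nat.lt_or_ge i 5632 with h | h
              ·
                exact allRange_spec orbit_21 i (by omega) (by omega)
              ·
                exact allRange_spec orbit_22 i (by omega) (by omega)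
        ·
          rcases Nat.lt_or_ge i 6912 with h | h
          ·
            rcases Nat.lt_or_ge i 6400 with h | h
            ·
              rcases Nat.lt_or_ge i 6144 with h | h
              ·
                exact allRange_spec orbit_23 i (by omega) (by omega)
              ·
                exact allRange_spec orbit_24 i (by omega) (by omega)
            ·
              rcases Nat.lt_or_ge i 6656 with h | h
              ·
                exact allRange_spec orbit_25 i (by omega) (by omega)
              ·
                exact allRange_spec orbit_26 i (by omega) (by omega)
          ·
            rcases Nat.lt_or_ge i 7424 with h | h
            ·
              rcases Nat.lt_or_ge i 7168 with h | h
              ·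
                exact allRange_spec orbit_27 i (by omega) (by omega)
              ·
                exact allRange_spec orbit_28 i (by omega) (by omega)
            ·
              rcases Nat.lt_or_ge i 7680 with h | h
              ·
                exact allRange_spec orbit_29 i (by omega) (by omega)
              ·
                exact allRange_spec orbit_30 i (by omega) (by omega)
    ·
      rcases Nat.lt_or_ge i 11776 with h | h
      ·
        rcases Nat.lt_or_ge i 9728 with h | h
        ·
          rcases Nat.lt_or_ge i 8704 with h | h
          ·
            rcases Nat.lt_or_ge i 8192 with h | h
            ·
              exact allRange_spec orbit_31 i (by omega) (by omega)
            ·
              rcases Nat.lt_or_ge i 8448 with h | h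
              ·
                exact allRange_spec orbit_32 i (by omega) (by omega)
              ·
                exact allRange_spec orbit_33 i (by omega) (by omega)
          ·
            rcases Nat.lt_or_ge i 9216 with h | h
            ·
              rcases Nat.lt_or_ge i 8960 with h | h
              ·
                exact allRange_spec orbit_34 i (by omega) (by omega)
              ·
                exact allRange_spec orbit_35 i (by omega) (by omega)
            ·
              rcases Nat.lt_or_ge i 9472 with h | h
              ·
                exact allRange_spec orbit_36 i (by omega) (by omega)
              ·
                exact allRange_spec orbit_37 i (by omega) (by omega)
        ·
          rcases Nat.lt_or_ge i 10752 with h | h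
          ·
            rcases Nat.lt_or_ge i 10240 with h | h
            ·
              rcases Nat.lt_or_ge i 9984 with h | h
              ·
                exact allRange_spec orbit_38 i (by omega) (by omega)
              ·
                exact allRange_spec orbit_39 i (by omega) (by omega)
            ·
              rcases Nat.lt_or_ge i 10496 with h | h
              ·
                exact allRange_spec orbit_40 i (by omega) (by omega)
              ·
                exact allRange_spec orbit_41 i (by omega) (by omega)
          ·
            rcases Nat.lt_or_ge i 11264 with h | h
            ·
              rcases Nat.lt_or_ge i 11008 with h | h
              ·
                exact allRange_spec orbit_42 i (by omega) (by omega)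
              ·
                exact allRange_spec orbit_43 i (by omega) (by omega)
            ·
              rcases Nat.lt_or_ge i 11520 with h | h
              ·
                exact allRange_spec orbit_44 i (by omega) (by omega)
              ·
                exact allRange_spec orbit_45 i (by omega) (by omega)
      ·
        rcases Nat.lt_or_ge i 13824 with h | h
        ·
          rcases Nat.lt_or_ge i 12800 with h | h
          ·
            rcases Nat.lt_or_ge i 12288 with h | h
            ·
              rcases Nat.lt_or_ge i 12032 with h | h
              ·
                exact allRange_spec orbit_46 i (by omega) (by omega)
              ·
                exact allRange_spec orbit_47 i (by omega) (by omega)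
            ·
              rcases Nat.lt_or_ge i 12544 with h | h
              ·
                exact allRange_spec orbit_48 i (by omega) (by omega)
              ·
                exact allRange_spec orbit_49 i (by omega) (by omega)
          ·
            rcases Nat.lt_or_ge i 13312 with h | h
            ·
              rcases Nat.lt_or_ge i 13056 with h | h
              ·
                exact allRange_spec orbit_50 i (by omega) (by omega)
              ·
                exact allRange_spec orbit_51 i (by omega) (by omega)
            ·
              rcases Nat.lt_or_ge i 13568 with h | h
              ·
                exact allRange_spec orbit_52 i (by omega) (by omega)
              ·
                exact allRange_spec orbit_53 i (by omega) (by omega)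
        ·
          rcases Nat.lt_or_ge i 14848 with h | h
          ·
            rcases Nat.lt_or_ge i 14336 with h | h
            ·
              rcases Nat.lt_or_ge i 14080 with h | h
              ·
                exact allRange_spec orbit_54 i (by omega) (by omega)
              ·
                exact allRange_spec orbit_55 i (by omega) (by omega)
            ·
              rcases Nat.lt_or_ge i 14592 with h | h
              ·
                exact allRange_spec orbit_56 i (by omega) (by omega)
              ·
                exact allRange_spec orbit_57 i (by omega) (by omega)
          ·
            rcases Nat.lt_or_ge i 15360 with h | h
            ·
              rcases Nat.lt_or_ge i 15104 with h | h
              ·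
                exact allRange_spec orbit_58 i (by omega) (by omega)
              ·
                exact allRange_spec orbit_59 i (by omega) (by omega)
            ·
              rcases Nat.lt_or_ge i 15616 with h | h
              ·
                exact allRange_spec orbit_60 i (by omega) (by omega)
              ·
                exact allRange_spec orbit_61 i (by omega) (by omega)
  ·
    rcases Nat.lt_or_ge i 23808 with h | h
    ·
      rcases Nat.lt_or_ge i 19712 with h | h
      ·
        rcases Nat.lt_or_ge i 17664 with h | h
        ·
          rcases Nat.lt_or_ge i 16640 with h | h
          ·
            rcases Nat.lt_or_ge i 16128 with h | h
            ·
              exact allRange_spec orbit_62 i (by omega) (by omega)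
            ·
              rcases Nat.lt_or_ge i 16384 with h | h
              ·
                exact allRange_spec orbit_63 i (by omega) (by omega)
              ·
                exact allRange_spec orbit_64 i (by omega) (by omega)
          ·
            rcases Nat.lt_or_ge i 17152 with h | h
            ·
              rcases Nat.lt_or_ge i 16896 with h | h
              ·
                exact allRange_spec orbit_65 i (by omega) (by omega)
              ·
                exact allRange_spec orbit_66 i (by omega) (by omega)
            ·
              rcases Nat.lt_or_ge i 17408 with h | h
              ·
                exact allRange_spec orbit_67 i (by omega) (by omega)
              ·
                exact allRange_spec orbit_68 i (by omega) (by omega)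
        ·
          rcases Nat.lt_or_ge i 18688 with h | h
          ·
            rcases Nat.lt_or_ge i 18176 with h | h
            ·
              rcases Nat.lt_or_ge i 17920 with h | h
              ·
                exact allRange_spec orbit_69 i (by omega) (by omega)
              ·
                exact allRange_spec orbit_70 i (by omega) (by omega)
            ·
              rcases Nat.lt_or_ge i 18432 with h | h
              ·
                exact allRange_spec orbit_71 i (by omega) (by omega)
              ·
                exact allRange_spec orbit_72 i (by omega) (by omega)
          ·
            rcases Nat.lt_or_ge i 19200 with h | h
            ·
              rcases Nat.lt_or_ge i 18944 with h | h
              ·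
                exact allRange_spec orbit_73 i (by omega) (by omega)
              ·
                exact allRange_spec orbit_74 i (by omega) (by omega)
            ·
              rcases Nat.lt_or_ge i 19456 with h | h
              ·
                exact allRange_spec orbit_75 i (by omega) (by omega)
              ·
                exact allRange_spec orbit_76 i (by omega) (by omega)
      ·
        rcases Nat.lt_or_ge i 21760 with h | h
        ·
          rcases Nat.lt_or_ge i 20736 with h | h
          ·
            rcases Nat.lt_or_ge i 20224 with h | h
            ·
              rcases Nat.lt_or_ge i 19968 with h | h
              ·
                exact allRange_spec orbit_77 i (by omega) (by omega)
              ·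
                exact allRange_spec orbit_78 i (by omega) (by omega)
            ·
              rcases Nat.lt_or_ge i 20480 with h | h
              ·
                exact allRange_spec orbit_79 i (by omega) (by omega)
              ·
                exact allRange_spec orbit_80 i (by omega) (by omega)
          ·
            rcases Nat.lt_or_ge i 21248 with h | h
            ·
              rcases Nat.lt_or_ge i 20992 with h | h
              ·
                exact allRange_spec orbit_81 i (by omega) (by omega)
              ·
                exact allRange_spec orbit_82 i (by omega) (by omega)
            ·
              rcases Nat.lt_or_ge i 21504 with h | h
              ·
                exact allRange_spec orbit_83 i (by omega) (by omega)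
              ·
                exact allRange_spec orbit_84 i (by omega) (by omega)
        ·
          rcases Nat.lt_or_ge i 22784 with h | h
          ·
            rcases Nat.lt_or_ge i 22272 with h | h
            ·
              rcases Nat.lt_or_ge i 22016 with h | h
              ·
                exact allRange_spec orbit_85 i (by omega) (by omega)
              ·
                exact allRange_spec orbit_86 i (by omega) (by omega)
            ·
              rcases Nat.lt_or_ge i 22528 with h | h
              ·
                exact allRange_spec orbit_87 i (by omega) (by omega)
              ·
                exact allRange_spec orbit_88 i (by omega) (by omega)
          ·
            rcases Nat.lt_or_ge i 23296 with h | h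
            ·
              rcases Nat.lt_or_ge i 23040 with h | h
              ·
                exact allRange_spec orbit_89 i (by omega) (by omega)
              ·
                exact allRange_spec orbit_90 i (by omega) (by omega)
            ·
              rcases Nat.lt_or_ge i 23552 with h | h
              ·
                exact allRange_spec orbit_91 i (by omega) (by omega)
              ·
                exact allRange_spec orbit_92 i (by omega) (by omega)
    ·
      rcases Nat.lt_or_ge i 27648 with h | h
      ·
        rcases Nat.lt_or_ge i 25600 with h | h
        ·
          rcases Nat.lt_or_ge i 24576 with h | h
          ·
            rcases Nat.lt_or_ge i 24064 with h | h
            ·
              exact allRange_spec orbit_93 i (by omega) (by omega)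
            ·
              rcases Nat.lt_or_ge i 24320 with h | h
              ·
                exact allRange_spec orbit_94 i (by omega) (by omega)
              ·
                exact allRange_spec orbit_95 i (by omega) (by omega)
          ·
            rcases Nat.lt_or_ge i 25088 with h | h
            ·
              rcases Nat.lt_or_ge i 24832 with h | h
              ·
                exact allRange_spec orbit_96 i (by omega) (by omega)
              ·
                exact allRange_spec orbit_97 i (by omega) (by omega)
            ·
              rcases Nat.lt_or_ge i 25344 with h | h
              ·
                exact allRange_spec orbit_98 i (by omega) (by omega)
              ·
                exact allRange_spec orbit_99 i (by omega) (by omega)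
        ·
          rcases Nat.lt_or_ge i 26624 with h | h
          ·
            rcases Nat.lt_or_ge i 26112 with h | h
            ·
              rcases Nat.lt_or_ge i 25856 with h | h
              ·
                exact allRange_spec orbit_100 i (by omega) (by omega)
              ·
                exact allRange_spec orbit_101 i (by omega) (by omega)
            ·
              rcases Nat.lt_or_ge i 26368 with h | h
              ·
                exact allRange_spec orbit_102 i (by omega) (by omega)
              ·
                exact allRange_spec orbit_103 i (by omega) (by omega)
          ·
            rcases Nat.lt_or_ge i 27136 with h | h
            ·
              rcases Nat.lt_or_ge i 26880 with h | h
              ·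
                exact allRange_spec orbit_104 i (by omega) (by omega)
              ·
                exact allRange_spec orbit_105 i (by omega) (by omega)
            ·
              rcases Nat.lt_or_ge i 27392 with h | h
              ·
                exact allRange_spec orbit_106 i (by omega) (by omega)
              ·
                exact allRange_spec orbit_107 i (by omega) (by omega)
      ·
        rcases Nat.lt_or_ge i 29696 with h | h
        ·
          rcases Nat.lt_or_ge i 28672 with h | h
          ·
            rcases Nat.lt_or_ge i 28160 with h | h
            ·
              rcases Nat.lt_or_ge i 27904 with h | h
              ·
                exact allRange_spec orbit_108 i (by omega) (by omega)
              ·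
                exact allRange_spec orbit_109 i (by omega) (by omega)
            ·
              rcases Nat.lt_or_ge i 28416 with h | h
              ·
                exact allRange_spec orbit_110 i (by omega) (by omega)
              ·
                exact allRange_spec orbit_111 i (by omega) (by omega)
          ·
            rcases Nat.lt_or_ge i 29184 with h | h
            ·
              rcases Nat.lt_or_ge i 28928 with h | h
              ·
                exact allRange_spec orbit_112 i (by omega) (by omega)
              ·
                exact allRange_spec orbit_113 i (by omega) (by omega)
            ·
              rcases Nat.lt_or_ge i 29440 with h | h
              ·
                exact allRange_spec orbit_114 i (by omega) (by omega)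
              ·
                exact allRange_spec orbit_115 i (by omega) (by omega)
        ·
          rcases Nat.lt_or_ge i 30720 with h | h
          ·
            rcases Nat.lt_or_ge i 30208 with h | h
            ·
              rcases Nat.lt_or_ge i 29952 with h | h
              ·
                exact allRange_spec orbit_116 i (by omega) (by omega)
              ·
                exact allRange_spec orbit_117 i (by omega) (by omega)
            ·
              rcases Nat.lt_or_ge i 30464 with h | h
              ·
                exact allRange_spec orbit_118 i (by omega) (by omega)
              ·
                exact allRange_spec orbit_119 i (by omega) (by omega)
          ·
            rcases Nat.lt_or_ge i 31232 with h | h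
            ·
              rcases Nat.lt_or_ge i 30976 with h | h
              ·
                exact allRange_spec orbit_120 i (by omega) (by omega)
              ·
                exact allRange_spec orbit_121 i (by omega) (by omega)
            ·
              rcases Nat.lt_or_ge i 31488 with h | h
              ·
                exact allRange_spec orbit_122 i (by omega) (by omega)
              ·
                exact allRange_spec orbit_123 i (by omega) (by omega)

end Cfsg.Agent.CosetEnum.Fi23.Rep
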