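import Cfsg.Agent.SporB.Fi23.Rep.Data
import Cfsg.Agent.SporB.Fi22.Rep.Data

set_option autoImplicit false
set_option maxRecDepth 100000

namespace Cfsg.Agent.CosetEnum.Fi23.Rep

theorem sig_ok : allRange (fun k => Nat.blt (sig k) 31671 && Nat.beq (sinv (sig k)) k && allRange (fun l => Nat.beq (tbl.at' (sig k) (sel.getD l 0)) (sig (Fi22.Rep.tbl.at' k l))) 0 9) 0 3510 = true := by decide +kernel

end Cfsg.Agent.CosetEnum.Fi23.Rep
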