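import Cfsg.Agent.SporB.Fi23.Rep.Data

set_option autoImplicit false
set_option maxRecDepth 100000

namespace Cfsg.Agent.CosetEnum.Fi23.Rep

theorem descend : InvPres.Rep.checkDescend tbl = true := by decide +kernel

theorem invs_ok : allRange (fun l => Nat.beq (tbl.inv l) l) 0 tbl.nl = true := by decide +kernel

theorem ws_ok : ws.all (fun W => W.all fun l => Nat.blt l tbl.nl) = true := by decide +kernel

theorem lab_ok : allRange (fun i => Nat.blt (orb.getLab i) 3) 0 31671 = true := by decide +kernel

theorem roots_ok : allRange (fun c => Nat.blt (roots.getD c 0) 31671 && Nat.beq (orb.getLab (roots.getD c 0)) c) 0 3 = true := by decide +kernel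

theorem size0 : countBelow (fun i => Nat.beq (orb.getLab i) 0) 31671 = 1 := by decide +kernel

theorem size1 : countBelow (fun i => Nat.beq (orb.getLab i) 1) 31671 = 28160 := by decide +kernel

theorem size2 : countBelow (fun i => Nat.beq (orb.getLab i) 2) 31671 = 3510 := by decide +kernel

theorem z_moves : Nat.beq (tbl.run zWord 1) 1 = false := by decide +kernel

theorem z_fix : Nat.beq (tbl.run zWord 0) 0 = true := by decide +kernel

end Cfsg.Agent.CosetEnum.Fi23.Rep
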