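import Cfsg.Agent.SporB.Fi23.Rep.Data

set_option autoImplicit false
set_option maxRecDepth 100000

namespace Cfsg.Agent.CosetEnum.Fi23.Rep

theorem point_80 : allRange (fun i => tbl.checkPoint shortRels i) 20480 256 = true := by decide +kernel

theorem point_81 : allRange (fun i => tbl.checkPoint shortRels i) 20736 256 = true := by decide +kernel

theorem point_82 : allRange (fun i => tbl.checkPoint shortRels i) 20992 256 = true := by decide +kernel

theorem point_83 : allRange (fun i => tbl.checkPoint shortRels i) 21248 256 = true := by decide +kernel

theorem point_84 : allRange (fun i => tbl.checkPoint shortRels i) 21504 256 = true := by decide +kernel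

theorem point_85 : allRange (fun i => tbl.checkPoint shortRels i) 21760 256 = true := by decide +kernel

theorem point_86 : allRange (fun i => tbl.checkPoint shortRels i) 22016 256 = true := by decide +kernel

theorem point_87 : allRange (fun i => tbl.checkPoint shortRels i) 22272 256 = true := by decide +kernel

end Cfsg.Agent.CosetEnum.Fi23.Rep
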