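import Cfsg.Agent.SporB.Fi23.Rep.Data

set_option autoImplicit false
set_option maxRecDepth 100000

namespace Cfsg.Agent.CosetEnum.Fi23.Rep

theorem point_88 : allRange (fun i => tbl.checkPoint shortRels i) 22528 256 = true := by decide +kernel

theorem point_89 : allRange (fun i => tbl.checkPoint shortRels i) 22784 256 = true := by decide +kernel

theorem point_90 : allRange (fun i => tbl.checkPoint shortRels i) 23040 256 = true := by decide +kernel

theorem point_91 : allRange (fun i => tbl.checkPoint shortRels i) 23296 256 = true := by decide +kernel

theorem point_92 : allRange (fun i => tbl.checkPoint shortRels i) 23552 256 = true := by decide +kernel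

theorem point_93 : allRange (fun i => tbl.checkPoint shortRels i) 23808 256 = true := by decide +kernel

theorem point_94 : allRange (fun i => tbl.checkPoint shortRels i) 24064 256 = true := by decide +kernel

theorem point_95 : allRange (fun i => tbl.checkPoint shortRels i) 24320 256 = true := by decide +kernel

end Cfsg.Agent.CosetEnum.Fi23.Rep
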