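import Cfsg.Agent.SporB.Fi23.Rep.Data

set_option autoImplicit false
set_option maxRecDepth 100000

namespace Cfsg.Agent.CosetEnum.Fi23.Rep

theorem point_96 : allRange (fun i => tbl.checkPoint shortRels i) 24576 256 = true := by decide +kernel

theorem point_97 : allRange (fun i => tbl.checkPoint shortRels i) 24832 256 = true := by decide +kernel

theorem point_98 : allRange (fun i => tbl.checkPoint shortRels i) 25088 256 = true := by decide +kernel

theorem point_99 : allRange (fun i => tbl.checkPoint shortRels i) 25344 256 = true := by decide +kernel

theorem point_100 : allRange (fun i => tbl.checkPoint shortRels i) 25600 256 = true := by decide +kernel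

theorem point_101 : allRange (fun i => tbl.checkPoint shortRels i) 25856 256 = true := by decide +kernel

theorem point_102 : allRange (fun i => tbl.checkPoint shortRels i) 26112 256 = true := by decide +kernel

theorem point_103 : allRange (fun i => tbl.checkPoint shortRels i) 26368 256 = true := by decide +kernel

end Cfsg.Agent.CosetEnum.Fi23.Rep
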