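import Cfsg.Agent.SporB.Fi23.Rep.Data

set_option autoImplicit false
set_option maxRecDepth 100000

namespace Cfsg.Agent.CosetEnum.Fi23.Rep

theorem point_104 : allRange (fun i => tbl.checkPoint shortRels i) 26624 256 = true := by decide +kernel

theorem point_105 : allRange (fun i => tbl.checkPoint shortRels i) 26880 256 = true := by decide +kernel

theorem point_106 : allRange (fun i => tbl.checkPoint shortRels i) 27136 256 = true := by decide +kernel

theorem point_107 : allRange (fun i => tbl.checkPoint shortRels i) 27392 256 = true := by decide +kernel

theorem point_108 : allRange (fun i => tbl.checkPoint shortRels i) 27648 256 = true := by decide +kernel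

theorem point_109 : allRange (fun i => tbl.checkPoint shortRels i) 27904 256 = true := by decide +kernel

theorem point_110 : allRange (fun i => tbl.checkPoint shortRels i) 28160 256 = true := by decide +kernel

theorem point_111 : allRange (fun i => tbl.checkPoint shortRels i) 28416 256 = true := by decide +kernel

end Cfsg.Agent.CosetEnum.Fi23.Rep
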