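import Cfsg.Agent.SporB.Fi23.Rep.Data

set_option autoImplicit false
set_option maxRecDepth 100000

namespace Cfsg.Agent.CosetEnum.Fi23.Rep

theorem point_112 : allRange (fun i => tbl.checkPoint shortRels i) 28672 256 = true := by decide +kernel

theorem point_113 : allRange (fun i => tbl.checkPoint shortRels i) 28928 256 = true := by decide +kernel

theorem point_114 : allRange (fun i => tbl.checkPoint shortRels i) 29184 256 = true := by decide +kernel

theorem point_115 : allRange (fun i => tbl.checkPoint shortRels i) 29440 256 = true := by decide +kernel

theorem point_116 : allRange (fun i => tbl.checkPoint shortRels i) 29696 256 = true := by decide +kernel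

theorem point_117 : allRange (fun i => tbl.checkPoint shortRels i) 29952 256 = true := by decide +kernel

theorem point_118 : allRange (fun i => tbl.checkPoint shortRels i) 30208 256 = true := by decide +kernel

theorem point_119 : allRange (fun i => tbl.checkPoint shortRels i) 30464 256 = true := by decide +kernel

end Cfsg.Agent.CosetEnum.Fi23.Rep
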