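import Cfsg.Agent.SporB.Fi23.Rep.Data

set_option autoImplicit false
set_option maxRecDepth 100000

namespace Cfsg.Agent.CosetEnum.Fi23.Rep

theorem point_120 : allRange (fun i => tbl.checkPoint shortRels i) 30720 256 = true := by decide +kernel

theorem point_121 : allRange (fun i => tbl.checkPoint shortRels i) 30976 256 = true := by decide +kernel

theorem point_122 : allRange (fun i => tbl.checkPoint shortRels i) 31232 256 = true := by decide +kernel

theorem point_123 : allRange (fun i => tbl.checkPoint shortRels i) 31488 183 = true := by decide +kernel

end Cfsg.Agent.CosetEnum.Fi23.Rep
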