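import Cfsg.Agent.SporB.Fi23.Rep.Data

set_option autoImplicit false
set_option maxRecDepth 100000

namespace Cfsg.Agent.CosetEnum.Fi23.Rep

theorem point_16 : allRange (fun i => tbl.checkPoint shortRels i) 4096 256 = true := by decide +kernel

theorem point_17 : allRange (fun i => tbl.checkPoint shortRels i) 4352 256 = true := by decide +kernel

theorem point_18 : allRange (fun i => tbl.checkPoint shortRels i) 4608 256 = true := by decide +kernel

theorem point_19 : allRange (fun i => tbl.checkPoint shortRels i) 4864 256 = true := by decide +kernel

theorem point_20 : allRange (fun i => tbl.checkPoint shortRels i) 5120 256 = true := by decide +kernel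

theorem point_21 : allRange (fun i => tbl.checkPoint shortRels i) 5376 256 = true := by decide +kernel

theorem point_22 : allRange (fun i => tbl.checkPoint shortRels i) 5632 256 = true := by decide +kernel

theorem point_23 : allRange (fun i => tbl.checkPoint shortRels i) 5888 256 = true := by decide +kernel

end Cfsg.Agent.CosetEnum.Fi23.Rep
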