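import Cfsg.Agent.SporB.Fi23.Rep.Data

set_option autoImplicit false
set_option maxRecDepth 100000

namespace Cfsg.Agent.CosetEnum.Fi23.Rep

theorem point_24 : allRange (fun i => tbl.checkPoint shortRels i) 6144 256 = true := by decide +kernel

theorem point_25 : allRange (fun i => tbl.checkPoint shortRels i) 6400 256 = true := by decide +kernel

theorem point_26 : allRange (fun i => tbl.checkPoint shortRels i) 6656 256 = true := by decide +kernel

theorem point_27 : allRange (fun i => tbl.checkPoint shortRels i) 6912 256 = true := by decide +kernel

theorem point_28 : allRange (fun i => tbl.checkPoint shortRels i) 7168 256 = true := by decide +kernel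

theorem point_29 : allRange (fun i => tbl.checkPoint shortRels i) 7424 256 = true := by decide +kernel

theorem point_30 : allRange (fun i => tbl.checkPoint shortRels i) 7680 256 = true := by decide +kernel

theorem point_31 : allRange (fun i => tbl.checkPoint shortRels i) 7936 256 = true := by decide +kernel

end Cfsg.Agent.CosetEnum.Fi23.Rep
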