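import Cfsg.Agent.SporB.Fi23.Rep.Data

set_option autoImplicit false
set_option maxRecDepth 100000

namespace Cfsg.Agent.CosetEnum.Fi23.Rep

theorem point_32 : allRange (fun i => tbl.checkPoint shortRels i) 8192 256 = true := by decide +kernel

theorem point_33 : allRange (fun i => tbl.checkPoint shortRels i) 8448 256 = true := by decide +kernel

theorem point_34 : allRange (fun i => tbl.checkPoint shortRels i) 8704 256 = true := by decide +kernel

theorem point_35 : allRange (fun i => tbl.checkPoint shortRels i) 8960 256 = true := by decide +kernel

theorem point_36 : allRange (fun i => tbl.checkPoint shortRels i) 9216 256 = true := by decide +kernel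

theorem point_37 : allRange (fun i => tbl.checkPoint shortRels i) 9472 256 = true := by decide +kernel

theorem point_38 : allRange (fun i => tbl.checkPoint shortRels i) 9728 256 = true := by decide +kernel

theorem point_39 : allRange (fun i => tbl.checkPoint shortRels i) 9984 256 = true := by decide +kernel

end Cfsg.Agent.CosetEnum.Fi23.Rep
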