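import Cfsg.Agent.SporB.Fi23.Rep.Data

set_option autoImplicit false
set_option maxRecDepth 100000

namespace Cfsg.Agent.CosetEnum.Fi23.Rep

theorem point_40 : allRange (fun i => tbl.checkPoint shortRels i) 10240 256 = true := by decide +kernel

theorem point_41 : allRange (fun i => tbl.checkPoint shortRels i) 10496 256 = true := by decide +kernel

theorem point_42 : allRange (fun i => tbl.checkPoint shortRels i) 10752 256 = true := by decide +kernel

theorem point_43 : allRange (fun i => tbl.checkPoint shortRels i) 11008 256 = true := by decide +kernel

theorem point_44 : allRange (fun i => tbl.checkPoint shortRels i) 11264 256 = true := by decide +kernel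

theorem point_45 : allRange (fun i => tbl.checkPoint shortRels i) 11520 256 = true := by decide +kernel

theorem point_46 : allRange (fun i => tbl.checkPoint shortRels i) 11776 256 = true := by decide +kernel

theorem point_47 : allRange (fun i => tbl.checkPoint shortRels i) 12032 256 = true := by decide +kernel

end Cfsg.Agent.CosetEnum.Fi23.Rep
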