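import Cfsg.Agent.SporB.Fi23.Rep.Data

set_option autoImplicit false
set_option maxRecDepth 100000

namespace Cfsg.Agent.CosetEnum.Fi23.Rep

theorem point_48 : allRange (fun i => tbl.checkPoint shortRels i) 12288 256 = true := by decide +kernel

theorem point_49 : allRange (fun i => tbl.checkPoint shortRels i) 12544 256 = true := by decide +kernel

theorem point_50 : allRange (fun i => tbl.checkPoint shortRels i) 12800 256 = true := by decide +kernel

theorem point_51 : allRange (fun i => tbl.checkPoint shortRels i) 13056 256 = true := by decide +kernel

theorem point_52 : allRange (fun i => tbl.checkPoint shortRels i) 13312 256 = true := by decide +kernel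

theorem point_53 : allRange (fun i => tbl.checkPoint shortRels i) 13568 256 = true := by decide +kernel

theorem point_54 : allRange (fun i => tbl.checkPoint shortRels i) 13824 256 = true := by decide +kernel

theorem point_55 : allRange (fun i => tbl.checkPoint shortRels i) 14080 256 = true := by decide +kernel

end Cfsg.Agent.CosetEnum.Fi23.Rep
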