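import Cfsg.Agent.SporB.Fi23.Rep.Data

set_option autoImplicit false
set_option maxRecDepth 100000

namespace Cfsg.Agent.CosetEnum.Fi23.Rep

theorem point_56 : allRange (fun i => tbl.checkPoint shortRels i) 14336 256 = true := by decide +kernel

theorem point_57 : allRange (fun i => tbl.checkPoint shortRels i) 14592 256 = true := by decide +kernel

theorem point_58 : allRange (fun i => tbl.checkPoint shortRels i) 14848 256 = true := by decide +kernel

theorem point_59 : allRange (fun i => tbl.checkPoint shortRels i) 15104 256 = true := by decide +kernel

theorem point_60 : allRange (fun i => tbl.checkPoint shortRels i) 15360 256 = true := by decide +kernel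

theorem point_61 : allRange (fun i => tbl.checkPoint shortRels i) 15616 256 = true := by decide +kernel

theorem point_62 : allRange (fun i => tbl.checkPoint shortRels i) 15872 256 = true := by decide +kernel

theorem point_63 : allRange (fun i => tbl.checkPoint shortRels i) 16128 256 = true := by decide +kernel

end Cfsg.Agent.CosetEnum.Fi23.Rep
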