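import Cfsg.Agent.SporB.Fi23.Rep.Data

set_option autoImplicit false
set_option maxRecDepth 100000

namespace Cfsg.Agent.CosetEnum.Fi23.Rep

theorem point_64 : allRange (fun i => tbl.checkPoint shortRels i) 16384 256 = true := by decide +kernel

theorem point_65 : allRange (fun i => tbl.checkPoint shortRels i) 16640 256 = true := by decide +kernel

theorem point_66 : allRange (fun i => tbl.checkPoint shortRels i) 16896 256 = true := by decide +kernel

theorem point_67 : allRange (fun i => tbl.checkPoint shortRels i) 17152 256 = true := by decide +kernel

theorem point_68 : allRange (fun i => tbl.checkPoint shortRels i) 17408 256 = true := by decide +kernel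

theorem point_69 : allRange (fun i => tbl.checkPoint shortRels i) 17664 256 = true := by decide +kernel

theorem point_70 : allRange (fun i => tbl.checkPoint shortRels i) 17920 256 = true := by decide +kernel

theorem point_71 : allRange (fun i => tbl.checkPoint shortRels i) 18176 256 = true := by decide +kernel

end Cfsg.Agent.CosetEnum.Fi23.Rep
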