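import Cfsg.Agent.SporB.Fi23.Rep.Data

set_option autoImplicit false
set_option maxRecDepth 100000

namespace Cfsg.Agent.CosetEnum.Fi23.Rep

theorem point_72 : allRange (fun i => tbl.checkPoint shortRels i) 18432 256 = true := by decide +kernel

theorem point_73 : allRange (fun i => tbl.checkPoint shortRels i) 18688 256 = true := by decide +kernel

theorem point_74 : allRange (fun i => tbl.checkPoint shortRels i) 18944 256 = true := by decide +kernel

theorem point_75 : allRange (fun i => tbl.checkPoint shortRels i) 19200 256 = true := by decide +kernel

theorem point_76 : allRange (fun i => tbl.checkPoint shortRels i) 19456 256 = true := by decide +kernel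

theorem point_77 : allRange (fun i => tbl.checkPoint shortRels i) 19712 256 = true := by decide +kernel

theorem point_78 : allRange (fun i => tbl.checkPoint shortRels i) 19968 256 = true := by decide +kernel

theorem point_79 : allRange (fun i => tbl.checkPoint shortRels i) 20224 256 = true := by decide +kernel

end Cfsg.Agent.CosetEnum.Fi23.Rep
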