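import Cfsg.Agent.SporB.Fi23.Rep.Point0
import Cfsg.Agent.SporB.Fi23.Rep.Point1
import Cfsg.Agent.SporB.Fi23.Rep.Point2
import Cfsg.Agent.SporB.Fi23.Rep.Point3
import Cfsg.Agent.SporB.Fi23.Rep.Point4
import Cfsg.Agent.SporB.Fi23.Rep.Point5
import Cfsg.Agent.SporB.Fi23.Rep.Point6
import Cfsg.Agent.SporB.Fi23.Rep.Point7
import Cfsg.Agent.SporB.Fi23.Rep.Point8
import Cfsg.Agent.SporB.Fi23.Rep.Point9
import Cfsg.Agent.SporB.Fi23.Rep.Point10
import Cfsg.Agent.SporB.Fi23.Rep.Point11
import Cfsg.Agent.SporB.Fi23.Rep.Point12
import Cfsg.Agent.SporB.Fi23.Rep.Point13
import Cfsg.Agent.SporB.Fi23.Rep.Point14
import Cfsg.Agent.SporB.Fi23.Rep.Point15

set_option autoImplicit false
set_option maxRecDepth 100000

namespace Cfsg.Agent.CosetEnum.Fi23.Rep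

theorem point : ∀ i < 31671, tbl.checkPoint shortRels i = true := by
  intro i hi
  rcases Nat.lt_or_ge i 15872 with h | h
  ·
    rcases Nat.lt_or_ge i 7936 with h | h
    ·
      rcases Nat.lt_or_ge i 3840 with h | h
      ·
        rcases Nat.lt_or_ge i 1792 with h | h
        ·
          rcases Nat.lt_or_ge i 768 with h | h
          ·
            rcases Nat.lt_or_ge i 256 with h | h
            ·
              exact allRange_spec point_0 i (by omega) (by omega)
            ·
              rcases Nat.lt_or_ge i 512 with h | h
              ·
                exact allRange_spec point_1 i (by omega) (by omega)
              ·
                exact allRange_spec point_2 i (by omega) (by omega)
          ·
            rcases Nat.lt_or_ge i 1280 with h | h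
            ·
              rcases Nat.lt_or_ge i 1024 with h | h
              ·
                exact allRange_spec point_3 i (by omega) (by omega)
              ·
                exact allRange_spec point_4 i (by omega) (by omega)
            ·
              rcases Nat.lt_or_ge i 1536 with h | h
              ·
                exact allRange_spec point_5 i (by omega) (by omega)
              ·
                exact allRange_spec point_6 i (by omega) (by omega)
        ·
          rcases Nat.lt_or_ge i 2816 with h | h
          ·
            rcases Nat.lt_or_ge i 2304 with h | h
            ·
              rcases Nat.lt_or_ge i 2048 with h | h
              ·
                exact allRange_spec point_7 i (by omega) (by omega)
              ·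
                exact allRange_spec point_8 i (by omega) (by omega)
            ·
              rcases Nat.lt_or_ge i 2560 with h | h
              ·
                exact allRange_spec point_9 i (by omega) (by omega)
              ·
                exact allRange_spec point_10 i (by omega) (by omega)
          ·
            rcases Nat.lt_or_ge i 3328 with h | h
            ·
              rcases Nat.lt_or_ge i 3072 with h | h
              ·
                exact allRange_spec point_11 i (by omega) (by omega)
              ·
                exact allRange_spec point_12 i (by omega) (by omega)
            ·
              rcases Nat.lt_or_ge i 3584 with h | h
              ·
                exact allRange_spec point_13 i (by omega) (by omega)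
              ·
                exact allRange_spec point_14 i (by omega) (by omega)
      ·
        rcases Nat.lt_or_ge i 5888 with h | h
        ·
          rcases Nat.lt_or_ge i 4864 with h | h
          ·
            rcases Nat.lt_or_ge i 4352 with h | h
            ·
              rcases Nat.lt_or_ge i 4096 with h | h
              ·
                exact allRange_spec point_15 i (by omega) (by omega)
              ·
                exact allRange_spec point_16 i (by omega) (by omega)
            ·
              rcases Nat.lt_or_ge i 4608 with h | h
              ·
                exact allRange_spec point_17 i (by omega) (by omega)
              ·
                exact allRange_spec point_18 i (by omega) (by omega)
          ·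
            rcases Nat.lt_or_ge i 5376 with h | h
            ·
              rcases Nat.lt_or_ge i 5120 with h | h
              ·
                exact allRange_spec point_19 i (by omega) (by omega)
              ·
                exact allRange_spec point_20 i (by omega) (by omega)
            ·
              rcases Nat.lt_or_ge i 5632 with h | h
              ·
                exact allRange_spec point_21 i (by omega) (by omega)
              ·
                exact allRange_spec point_22 i (by omega) (by omega)
        ·
          rcases Nat.lt_or_ge i 6912 with h | h
          ·
            rcases Nat.lt_or_ge i 6400 with h | h
            ·
              rcases Nat.lt_or_ge i 6144 with h | h
              ·
                exact allRange_spec point_23 i (by omega) (by omega)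
              ·
                exact allRange_spec point_24 i (by omega) (by omega)
            ·
              rcases Nat.lt_or_ge i 6656 with h | h
              ·
                exact allRange_spec point_25 i (by omega) (by omega)
              ·
                exact allRange_spec point_26 i (by omega) (by omega)
          ·
            rcases Nat.lt_or_ge i 7424 with h | h
            ·
              rcases Nat.lt_or_ge i 7168 with h | h
              ·
                exact allRange_spec point_27 i (by omega) (by omega)
              ·
                exact allRange_spec point_28 i (by omega) (by omega)
            ·
              rcases Nat.lt_or_ge i 7680 with h | h
              ·
                exact allRange_spec point_29 i (by omega) (by omega)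
              ·
                exact allRange_spec point_30 i (by omega) (by omega)
    ·
      rcases Nat.lt_or_ge i 11776 with h | h
      ·
        rcases Nat.lt_or_ge i 9728 with h | h
        ·
          rcases Nat.lt_or_ge i 8704 with h | h
          ·
            rcases Nat.lt_or_ge i 8192 with h | h
            ·
              exact allRange_spec point_31 i (by omega) (by omega)
            ·
              rcases Nat.lt_or_ge i 8448 with h | h
              ·
                exact allRange_spec point_32 i (by omega) (by omega)
              ·
                exact allRange_spec point_33 i (by omega) (by omega)
          ·
            rcases Nat.lt_or_ge i 9216 with h | h
            ·
              rcases Nat.lt_or_ge i 8960 with h | h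
              ·
                exact allRange_spec point_34 i (by omega) (by omega)
              ·
                exact allRange_spec point_35 i (by omega) (by omega)
            ·
              rcases Nat.lt_or_ge i 9472 with h | h
              ·
                exact allRange_spec point_36 i (by omega) (by omega)
              ·
                exact allRange_spec point_37 i (by omega) (by omega)
        ·
          rcases Nat.lt_or_ge i 10752 with h | h
          ·
            rcases Nat.lt_or_ge i 10240 with h | h
            ·
              rcases Nat.lt_or_ge i 9984 with h | h
              ·
                exact allRange_spec point_38 i (by omega) (by omega)
              ·
                exact allRange_spec point_39 i (by omega) (by omega)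
            ·
              rcases Nat.lt_or_ge i 10496 with h | h
              ·
                exact allRange_spec point_40 i (by omega) (by omega)
              ·
                exact allRange_spec point_41 i (by omega) (by omega)
          ·
            rcases Nat.lt_or_ge i 11264 with h | h
            ·
              rcases Nat.lt_or_ge i 11008 with h | h
              ·
                exact allRange_spec point_42 i (by omega) (by omega)
              ·
                exact allRange_spec point_43 i (by omega) (by omega)
            ·
              rcases Nat.lt_or_ge i 11520 with h | h
              ·
                exact allRange_spec point_44 i (by omega) (by omega)
              ·
                exact allRange_spec point_45 i (by omega) (by omega)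
      ·
        rcases Nat.lt_or_ge i 13824 with h | h
        ·
          rcases Nat.lt_or_ge i 12800 with h | h
          ·
            rcases Nat.lt_or_ge i 12288 with h | h
            ·
              rcases Nat.lt_or_ge i 12032 with h | h
              ·
                exact allRange_spec point_46 i (by omega) (by omega)
              ·
                exact allRange_spec point_47 i (by omega) (by omega)
            ·
              rcases Nat.lt_or_ge i 12544 with h | h
              ·
                exact allRange_spec point_48 i (by omega) (by omega)
              ·
                exact allRange_spec point_49 i (by omega) (by omega)
          ·
            rcases Nat.lt_or_ge i 13312 with h | h
            ·
              rcases Nat.lt_or_ge i 13056 with h | h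
              ·
                exact allRange_spec point_50 i (by omega) (by omega)
              ·
                exact allRange_spec point_51 i (by omega) (by omega)
            ·
              rcases Nat.lt_or_ge i 13568 with h | h
              ·
                exact allRange_spec point_52 i (by omega) (by omega)
              ·
                exact allRange_spec point_53 i (by omega) (by omega)
        ·
          rcases Nat.lt_or_ge i 14848 with h | h
          ·
            rcases Nat.lt_or_ge i 14336 with h | h
            ·
              rcases Nat.lt_or_ge i 14080 with h | h
              ·
                exact allRange_spec point_54 i (by omega) (by omega)
              ·
                exact allRange_spec point_55 i (by omega) (by omega)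
            ·
              rcases Nat.lt_or_ge i 14592 with h | h
              ·
                exact allRange_spec point_56 i (by omega) (by omega)
              ·
                exact allRange_spec point_57 i (by omega) (by omega)
          ·
            rcases Nat.lt_or_ge i 15360 with h | h
            ·
              rcases Nat.lt_or_ge i 15104 with h | h
              ·
                exact allRange_spec point_58 i (by omega) (by omega)
              ·
                exact allRange_spec point_59 i (by omega) (by omega)
            ·
              rcases Nat.lt_or_ge i 15616 with h | h
              ·
                exact allRange_spec point_60 i (by omega) (by omega)
              ·
                exact allRange_spec point_61 i (by omega) (by omega)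
  ·
    rcases Nat.lt_or_ge i 23808 with h | h
    ·
      rcases Nat.lt_or_ge i 19712 with h | h
      ·
        rcases Nat.lt_or_ge i 17664 with h | h
        ·
          rcases Nat.lt_or_ge i 16640 with h | h
          ·
            rcases Nat.lt_or_ge i 16128 with h | h
            ·
              exact allRange_spec point_62 i (by omega) (by omega)
            ·
              rcases Nat.lt_or_ge i 16384 with h | h
              ·
                exact allRange_spec point_63 i (by omega) (by omega)
              ·
                exact allRange_spec point_64 i (by omega) (by omega)
          ·
            rcases Nat.lt_or_ge i 17152 with h | h
            ·
              rcases Nat.lt_or_ge i 16896 with h | h
              ·
                exact allRange_spec point_65 i (by omega) (by omega)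
              ·
                exact allRange_spec point_66 i (by omega) (by omega)
            ·
              rcases Nat.lt_or_ge i 17408 with h | h
              ·
                exact allRange_spec point_67 i (by omega) (by omega)
              ·
                exact allRange_spec point_68 i (by omega) (by omega)
        ·
          rcases Nat.lt_or_ge i 18688 with h | h
          ·
            rcases Nat.lt_or_ge i 18176 with h | h
            ·
              rcases Nat.lt_or_ge i 17920 with h | h
              ·
                exact allRange_spec point_69 i (by omega) (by omega)
              ·
                exact allRange_spec point_70 i (by omega) (by omega)
            ·
              rcases Nat.lt_or_ge i 18432 with h | h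
              ·
                exact allRange_spec point_71 i (by omega) (by omega)
              ·
                exact allRange_spec point_72 i (by omega) (by omega)
          ·
            rcases Nat.lt_or_ge i 19200 with h | h
            ·
              rcases Nat.lt_or_ge i 18944 with h | h
              ·
                exact allRange_spec point_73 i (by omega) (by omega)
              ·
                exact allRange_spec point_74 i (by omega) (by omega)
            ·
              rcases Nat.lt_or_ge i 19456 with h | h
              ·
                exact allRange_spec point_75 i (by omega) (by omega)
              ·
                exact allRange_spec point_76 i (by omega) (by omega)
      ·
        rcases Nat.lt_or_ge i 21760 with h | h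
        ·
          rcases Nat.lt_or_ge i 20736 with h | h
          ·
            rcases Nat.lt_or_ge i 20224 with h | h
            ·
              rcases Nat.lt_or_ge i 19968 with h | h
              ·
                exact allRange_spec point_77 i (by omega) (by omega)
              ·
                exact allRange_spec point_78 i (by omega) (by omega)
            ·
              rcases Nat.lt_or_ge i 20480 with h | h
              ·
                exact allRange_spec point_79 i (by omega) (by omega)
              ·
                exact allRange_spec point_80 i (by omega) (by omega)
          ·
            rcases Nat.lt_or_ge i 21248 with h | h
            ·
              rcases Nat.lt_or_ge i 20992 with h | h
              ·
                exact allRange_spec point_81 i (by omega) (by omega)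
              ·
                exact allRange_spec point_82 i (by omega) (by omega)
            ·
              rcases Nat.lt_or_ge i 21504 with h | h
              ·
                exact allRange_spec point_83 i (by omega) (by omega)
              ·
                exact allRange_spec point_84 i (by omega) (by omega)
        ·
          rcases Nat.lt_or_ge i 22784 with h | h
          ·
            rcases Nat.lt_or_ge i 22272 with h | h
            ·
              rcases Nat.lt_or_ge i 22016 with h | h
              ·
                exact allRange_spec point_85 i (by omega) (by omega)
              ·
                exact allRange_spec point_86 i (by omega) (by omega)
            ·
              rcases Nat.lt_or_ge i 22528 with h | h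
              ·
                exact allRange_spec point_87 i (by omega) (by omega)
              ·
                exact allRange_spec point_88 i (by omega) (by omega)
          ·
            rcases Nat.lt_or_ge i 23296 with h | h
            ·
              rcases Nat.lt_or_ge i 23040 with h | h
              ·
                exact allRange_spec point_89 i (by omega) (by omega)
              ·
                exact allRange_spec point_90 i (by omega) (by omega)
            ·
              rcases Nat.lt_or_ge i 23552 with h | h
              ·
                exact allRange_spec point_91 i (by omega) (by omega)
              ·
                exact allRange_spec point_92 i (by omega) (by omega)
    ·
      rcases Nat.lt_or_ge i 27648 with h | h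
      ·
        rcases Nat.lt_or_ge i 25600 with h | h
        ·
          rcases Nat.lt_or_ge i 24576 with h | h
          ·
            rcases Nat.lt_or_ge i 24064 with h | h
            ·
              exact allRange_spec point_93 i (by omega) (by omega)
            ·
              rcases Nat.lt_or_ge i 24320 with h | h
              ·
                exact allRange_spec point_94 i (by omega) (by omega)
              ·
                exact allRange_spec point_95 i (by omega) (by omega)
          ·
            rcases Nat.lt_or_ge i 25088 with h | h
            ·
              rcases Nat.lt_or_ge i 24832 with h | h
              ·
                exact allRange_spec point_96 i (by omega) (by omega)
              ·
                exact allRange_spec point_97 i (by omega) (by omega)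
            ·
              rcases Nat.lt_or_ge i 25344 with h | h
              ·
                exact allRange_spec point_98 i (by omega) (by omega)
              ·
                exact allRange_spec point_99 i (by omega) (by omega)
        ·
          rcases Nat.lt_or_ge i 26624 with h | h
          ·
            rcases Nat.lt_or_ge i 26112 with h | h
            ·
              rcases Nat.lt_or_ge i 25856 with h | h
              ·
                exact allRange_spec point_100 i (by omega) (by omega)
              ·
                exact allRange_spec point_101 i (by omega) (by omega)
            ·
              rcases Nat.lt_or_ge i 26368 with h | h
              ·
                exact allRange_spec point_102 i (by omega) (by omega)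
              ·
                exact allRange_spec point_103 i (by omega) (by omega)
          ·
            rcases Nat.lt_or_ge i 27136 with h | h
            ·
              rcases Nat.lt_or_ge i 26880 with h | h
              ·
                exact allRange_spec point_104 i (by omega) (by omega)
              ·
                exact allRange_spec point_105 i (by omega) (by omega)
            ·
              rcases Nat.lt_or_ge i 27392 with h | h
              ·
                exact allRange_spec point_106 i (by omega) (by omega)
              ·
                exact allRange_spec point_107 i (by omega) (by omega)
      ·
        rcases Nat.lt_or_ge i 29696 with h | h
        ·
          rcases Nat.lt_or_ge i 28672 with h | h
          ·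
            rcases Nat.lt_or_ge i 28160 with h | h
            ·
              rcases Nat.lt_or_ge i 27904 with h | h
              ·
                exact allRange_spec point_108 i (by omega) (by omega)
              ·
                exact allRange_spec point_109 i (by omega) (by omega)
            ·
              rcases Nat.lt_or_ge i 28416 with h | h
              ·
                exact allRange_spec point_110 i (by omega) (by omega)
              ·
                exact allRange_spec point_111 i (by omega) (by omega)
          ·
            rcases Nat.lt_or_ge i 29184 with h | h
            ·
              rcases Nat.lt_or_ge i 28928 with h | h
              ·
                exact allRange_spec point_112 i (by omega) (by omega)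
              ·
                exact allRange_spec point_113 i (by omega) (by omega)
            ·
              rcases Nat.lt_or_ge i 29440 with h | h
              ·
                exact allRange_spec point_114 i (by omega) (by omega)
              ·
                exact allRange_spec point_115 i (by omega) (by omega)
        ·
          rcases Nat.lt_or_ge i 30720 with h | h
          ·
            rcases Nat.lt_or_ge i 30208 with h | h
            ·
              rcases Nat.lt_or_ge i 29952 with h | h
              ·
                exact allRange_spec point_116 i (by omega) (by omega)
              ·
                exact allRange_spec point_117 i (by omega) (by omega)
            ·
              rcases Nat.lt_or_ge i 30464 with h | h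
              ·
                exact allRange_spec point_118 i (by omega) (by omega)
              ·
                exact allRange_spec point_119 i (by omega) (by omega)
          ·
            rcases Nat.lt_or_ge i 31232 with h | h
            ·
              rcases Nat.lt_or_ge i 30976 with h | h
              ·
                exact allRange_spec point_120 i (by omega) (by omega)
              ·
                exact allRange_spec point_121 i (by omega) (by omega)
            ·
              rcases Nat.lt_or_ge i 31488 with h | h
              ·
                exact allRange_spec point_122 i (by omega) (by omega)
              ·
                exact allRange_spec point_123 i (by omega) (by omega)

end Cfsg.Agent.CosetEnum.Fi23.Rep
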