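import Cfsg.Agent.SporB.Fi23.Rep.Data

set_option autoImplicit false
set_option maxRecDepth 100000

namespace Cfsg.Agent.CosetEnum.Fi23.Rep

theorem conj_0 : allRange (fun i => Nat.beq (tbl.run zWord i) (tbl.run (conjU ++ conjL :: conjU.reverse) i)) 0 256 = true := by decide +kernel

theorem conj_1 : allRange (fun i => Nat.beq (tbl.run zWord i) (tbl.run (conjU ++ conjL :: conjU.reverse) i)) 256 256 = true := by decide +kernel

theorem conj_2 : allRange (fun i => Nat.beq (tbl.run zWord i) (tbl.run (conjU ++ conjL :: conjU.reverse) i)) 512 256 = true := by decide +kernel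

theorem conj_3 : allRange (fun i => Nat.beq (tbl.run zWord i) (tbl.run (conjU ++ conjL :: conjU.reverse) i)) 768 256 = true := by decide +kernel

theorem conj_4 : allRange (fun i => Nat.beq (tbl.run zWord i) (tbl.run (conjU ++ conjL :: conjU.reverse) i)) 1024 256 = true := by decide +kernel

theorem conj_5 : allRange (fun i => Nat.beq (tbl.run zWord i) (tbl.run (conjU ++ conjL :: conjU.reverse) i)) 1280 256 = true := by decide +kernel

theorem conj_6 : allRange (fun i => Nat.beq (tbl.run zWord i) (tbl.run (conjU ++ conjL :: conjU.reverse) i)) 1536 256 = true := by decide +kernel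

theorem conj_7 : allRange (fun i => Nat.beq (tbl.run zWord i) (tbl.run (conjU ++ conjL :: conjU.reverse) i)) 1792 256 = true := by decide +kernel

theorem conj_8 : allRange (fun i => Nat.beq (tbl.run zWord i) (tbl.run (conjU ++ conjL :: conjU.reverse) i)) 2048 256 = true := by decide +kernel

theorem conj_9 : allRange (fun i => Nat.beq (tbl.run zWord i) (tbl.run (conjU ++ conjL :: conjU.reverse) i)) 2304 256 = true := by decide +kernel

theorem conj_10 : allRange (fun i => Nat.beq (tbl.run zWord i) (tbl.run (conjU ++ conjL :: conjU.reverse) i)) 2560 256 = true := by decide +kernel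

theorem conj_11 : allRange (fun i => Nat.beq (tbl.run zWord i) (tbl.run (conjU ++ conjL :: conjU.reverse) i)) 2816 256 = true := by decide +kernel

theorem conj_12 : allRange (fun i => Nat.beq (tbl.run zWord i) (tbl.run (conjU ++ conjL :: conjU.reverse) i)) 3072 256 = true := by decide +kernel

theorem conj_13 : allRange (fun i => Nat.beq (tbl.run zWord i) (tbl.run (conjU ++ conjL :: conjU.reverse) i)) 3328 256 = true := by decide +kernel

end Cfsg.Agent.CosetEnum.Fi23.Rep
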