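import Cfsg.Agent.SporB.Fi23.Rep.Data

set_option autoImplicit false
set_option maxRecDepth 100000

namespace Cfsg.Agent.CosetEnum.Fi23.Rep

theorem orbit_0 : allRange (fun i => allRange (fun c => orb.checkPoint tbl ws c (roots.getD c 0) i) 0 3) 0 256 = true := by decide +kernel

theorem orbit_1 : allRange (fun i => allRange (fun c => orb.checkPoint tbl ws c (roots.getD c 0) i) 0 3) 256 256 = true := by decide +kernel

theorem orbit_2 : allRange (fun i => allRange (fun c => orb.checkPoint tbl ws c (roots.getD c 0) i) 0 3) 512 256 = true := by decide +kernel

theorem orbit_3 : allRange (fun i => allRange (fun c => orb.checkPoint tbl ws c (roots.getD c 0) i) 0 3) 768 256 = true := by decide +kernel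

theorem orbit_4 : allRange (fun i => allRange (fun c => orb.checkPoint tbl ws c (roots.getD c 0) i) 0 3) 1024 256 = true := by decide +kernel

theorem orbit_5 : allRange (fun i => allRange (fun c => orb.checkPoint tbl ws c (roots.getD c 0) i) 0 3) 1280 256 = true := by decide +kernel

theorem orbit_6 : allRange (fun i => allRange (fun c => orb.checkPoint tbl ws c (roots.getD c 0) i) 0 3) 1536 256 = true := by decide +kernel

theorem orbit_7 : allRange (fun i => allRange (fun c => orb.checkPoint tbl ws c (roots.getD c 0) i) 0 3) 1792 256 = true := by decide +kernel

theorem orbit_8 : allRange (fun i => allRange (fun c => orb.checkPoint tbl ws c (roots.getD c 0) i) 0 3) 2048 256 = true := by decide +kernel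

theorem orbit_9 : allRange (fun i => allRange (fun c => orb.checkPoint tbl ws c (roots.getD c 0) i) 0 3) 2304 256 = true := by decide +kernel

theorem orbit_10 : allRange (fun i => allRange (fun c => orb.checkPoint tbl ws c (roots.getD c 0) i) 0 3) 2560 256 = true := by decide +kernel

theorem orbit_11 : allRange (fun i => allRange (fun c => orb.checkPoint tbl ws c (roots.getD c 0) i) 0 3) 2816 256 = true := by decide +kernel

theorem orbit_12 : allRange (fun i => allRange (fun c => orb.checkPoint tbl ws c (roots.getD c 0) i) 0 3) 3072 256 = true := by decide +kernel

theorem orbit_13 : allRange (fun i => allRange (fun c => orb.checkPoint tbl ws c (roots.getD c 0) i) 0 3) 3328 256 = true := by decide +kernel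

theorem orbit_14 : allRange (fun i => allRange (fun c => orb.checkPoint tbl ws c (roots.getD c 0) i) 0 3) 3584 256 = true := by decide +kernel

theorem orbit_15 : allRange (fun i => allRange (fun c => orb.checkPoint tbl ws c (roots.getD c 0) i) 0 3) 3840 256 = true := by decide +kernel

theorem orbit_16 : allRange (fun i => allRange (fun c => orb.checkPoint tbl ws c (roots.getD c 0) i) 0 3) 4096 256 = true := by decide +kernel

theorem orbit_17 : allRange (fun i => allRange (fun c => orb.checkPoint tbl ws c (roots.getD c 0) i) 0 3) 4352 256 = true := by decide +kernel

theorem orbit_18 : allRange (fun i => allRange (fun c => orb.checkPoint tbl ws c (roots.getD c 0) i) 0 3) 4608 256 = true := by decide +kernel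

theorem orbit_19 : allRange (fun i => allRange (fun c => orb.checkPoint tbl ws c (roots.getD c 0) i) 0 3) 4864 256 = true := by decide +kernel

theorem orbit_20 : allRange (fun i => allRange (fun c => orb.checkPoint tbl ws c (roots.getD c 0) i) 0 3) 5120 256 = true := by decide +kernel

theorem orbit_21 : allRange (fun i => allRange (fun c => orb.checkPoint tbl ws c (roots.getD c 0) i) 0 3) 5376 256 = true := by decide +kernel

theorem orbit_22 : allRange (fun i => allRange (fun c => orb.checkPoint tbl ws c (roots.getD c 0) i) 0 3) 5632 256 = true := by decide +kernel

theorem orbit_23 : allRange (fun i => allRange (fun c => orb.checkPoint tbl ws c (roots.getD c 0) i) 0 3) 5888 256 = true := by decide +kernel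

theorem orbit_24 : allRange (fun i => allRange (fun c => orb.checkPoint tbl ws c (roots.getD c 0) i) 0 3) 6144 256 = true := by decide +kernel

theorem orbit_25 : allRange (fun i => allRange (fun c => orb.checkPoint tbl ws c (roots.getD c 0) i) 0 3) 6400 256 = true := by decide +kernel

theorem orbit_26 : allRange (fun i => allRange (fun c => orb.checkPoint tbl ws c (roots.getD c 0) i) 0 3) 6656 256 = true := by decide +kernel

theorem orbit_27 : allRange (fun i => allRange (fun c => orb.checkPoint tbl ws c (roots.getD c 0) i) 0 3) 6912 256 = true := by decide +kernel

theorem orbit_28 : allRange (fun i => allRange (fun c => orb.checkPoint tbl ws c (roots.getD c 0) i) 0 3) 7168 256 = true := by decide +kernel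

theorem orbit_29 : allRange (fun i => allRange (fun c => orb.checkPoint tbl ws c (roots.getD c 0) i) 0 3) 7424 256 = true := by decide +kernel

theorem orbit_30 : allRange (fun i => allRange (fun c => orb.checkPoint tbl ws c (roots.getD c 0) i) 0 3) 7680 256 = true := by decide +kernel

theorem orbit_31 : allRange (fun i => allRange (fun c => orb.checkPoint tbl ws c (roots.getD c 0) i) 0 3) 7936 256 = true := by decide +kernel

theorem orbit_32 : allRange (fun i => allRange (fun c => orb.checkPoint tbl ws c (roots.getD c 0) i) 0 3) 8192 256 = true := by decide +kernel

theorem orbit_33 : allRange (fun i => allRange (fun c => orb.checkPoint tbl ws c (roots.getD c 0) i) 0 3) 8448 256 = true := by decide +kernel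

theorem orbit_34 : allRange (fun i => allRange (fun c => orb.checkPoint tbl ws c (roots.getD c 0) i) 0 3) 8704 256 = true := by decide +kernel

theorem orbit_35 : allRange (fun i => allRange (fun c => orb.checkPoint tbl ws c (roots.getD c 0) i) 0 3) 8960 256 = true := by decide +kernel

theorem orbit_36 : allRange (fun i => allRange (fun c => orb.checkPoint tbl ws c (roots.getD c 0) i) 0 3) 9216 256 = true := by decide +kernel

theorem orbit_37 : allRange (fun i => allRange (fun c => orb.checkPoint tbl ws c (roots.getD c 0) i) 0 3) 9472 256 = true := by decide +kernel

theorem orbit_38 : allRange (fun i => allRange (fun c => orb.checkPoint tbl ws c (roots.getD c 0) i) 0 3) 9728 256 = true := by decide +kernel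

theorem orbit_39 : allRange (fun i => allRange (fun c => orb.checkPoint tbl ws c (roots.getD c 0) i) 0 3) 9984 256 = true := by decide +kernel

theorem orbit_40 : allRange (fun i => allRange (fun c => orb.checkPoint tbl ws c (roots.getD c 0) i) 0 3) 10240 256 = true := by decide +kernel

theorem orbit_41 : allRange (fun i => allRange (fun c => orb.checkPoint tbl ws c (roots.getD c 0) i) 0 3) 10496 256 = true := by decide +kernel

end Cfsg.Agent.CosetEnum.Fi23.Rep
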