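import Cfsg.Agent.SporB.Fi23.Rep.Data

set_option autoImplicit false
set_option maxRecDepth 100000

namespace Cfsg.Agent.CosetEnum.Fi23.Rep

theorem point_0 : allRange (fun i => tbl.checkPoint shortRels i) 0 256 = true := by decide +kernel

theorem point_1 : allRange (fun i => tbl.checkPoint shortRels i) 256 256 = true := by decide +kernel

theorem point_2 : allRange (fun i => tbl.checkPoint shortRels i) 512 256 = true := by decide +kernel

theorem point_3 : allRange (fun i => tbl.checkPoint shortRels i) 768 256 = true := by decide +kernel

theorem point_4 : allRange (fun i => tbl.checkPoint shortRels i) 1024 256 = true := by decide +kernel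

theorem point_5 : allRange (fun i => tbl.checkPoint shortRels i) 1280 256 = true := by decide +kernel

theorem point_6 : allRange (fun i => tbl.checkPoint shortRels i) 1536 256 = true := by decide +kernel

theorem point_7 : allRange (fun i => tbl.checkPoint shortRels i) 1792 256 = true := by decide +kernel

end Cfsg.Agent.CosetEnum.Fi23.Rep
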